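import Mathlib

/-! A map to a module flat over the base is bijective near the fibres on which it is bijective. -/

set_option autoImplicit false
set_option linter.style.haveILetI false

universe u

open TensorProduct

namespace Groth.Agent.FlatIso

section loc

variable {R B : Type u} [CommRing R] [CommRing B] [Algebra R B] [IsLocalRing B]

/-- A finite module over a local ring with trivial fibre over the base vanishes. -/
theorem subsingleton_of_fibre (Q : Type u) [AddCommGroup Q] [Module B Q] [Module R Q] [IsScalarTower R B Q]
    [Module.Finite B Q] (p : Ideal R) [p.IsPrime] (hp : p = (IsLocalRing.maximalIdeal B).comap (algebraMap R B))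
    (h : ∀ x : Q, (1 : p.ResidueField) ⊗ₜ[R] x = 0) : Subsingleton Q := by
  let k := (IsLocalRing.maximalIdeal B).ResidueField
  let g : p.ResidueField →ₐ[R] k := Ideal.ResidueField.mapₐ p (IsLocalRing.maximalIdeal B) (Algebra.ofId R B) hp
  let T : p.ResidueField ⊗[R] Q →ₗ[R] k ⊗[B] Q := TensorProduct.lift
    (((TensorProduct.mk B k Q).restrictScalars₁₂ R R).comp g.toLinearMap)
  have h0 : ∀ x : Q, (1 : k) ⊗ₜ[B] x = 0 := fun x => by
    have := congrArg T (h x)
    rw [map_zero] at this
    simpa [T, map_one] using this
  have hs : Subsingleton (k ⊗[B] Q) := subsingleton_of_forall_eq 0 fun z => by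
    induction z using TensorProduct.induction_on with
    | zero => rfl
    | tmul a x =>
      obtain ⟨b, rfl⟩ := Ideal.algebraMap_residueField_surjective (IsLocalRing.maximalIdeal B) a
      rw [Algebra.algebraMap_eq_smul_one, TensorProduct.smul_tmul, TensorProduct.tmul_smul, h0 x, smul_zero]
    | add a b ha hb => rw [ha, hb, add_zero]
  by_contra hQ
  rw [not_subsingleton_iff_nontrivial] at hQ
  have hm : (⟨IsLocalRing.maximalIdeal B, inferInstance⟩ : PrimeSpectrum B) ∈ Module.support B Q := by
    obtain ⟨q, hq⟩ := Module.nonempty_support_iff (R := B) |>.2 hQ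
    exact Module.mem_support_mono (IsLocalRing.le_maximalIdeal q.2.ne_top) hq
  rw [Module.mem_support_iff_nontrivial_residueField_tensorProduct] at hm
  exact not_subsingleton_iff_nontrivial.2 hm hs

/-- The local statement. -/
theorem bijective_of_fibre {M N : Type u} [AddCommGroup M] [Module B M] [Module R M] [IsScalarTower R B M]
    [AddCommGroup N] [Module B N] [Module R N] [IsScalarTower R B N] [Module.Finite B M]
    [Module.FinitePresentation B N] [Module.Flat R N] (u : M →ₗ[B] N) (p : Ideal R) [p.IsPrime]
    (hp : p = (IsLocalRing.maximalIdeal B).comap (algebraMap R B))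
    (h : Function.Bijective ((u.restrictScalars R).lTensor p.ResidueField)) : Function.Bijective u := by
  have hs : Function.Surjective u := by
    let Q := N ⧸ LinearMap.range u
    have hQ : Subsingleton Q := subsingleton_of_fibre (B := B) Q p hp fun x => by
      obtain ⟨x, rfl⟩ := Submodule.Quotient.mk_surjective _ x
      obtain ⟨z, hz⟩ := h.2 (1 ⊗ₜ x)
      have := congrArg (((LinearMap.range u).mkQ.restrictScalars R).lTensor p.ResidueField) hz
      rw [← LinearMap.comp_apply, ← LinearMap.lTensor_comp,
        show ((LinearMap.range u).mkQ.restrictScalars R).comp (u.restrictScalars R) = 0 from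
          LinearMap.ext fun m => (Submodule.Quotient.mk_eq_zero _).2 ⟨m, rfl⟩,
        LinearMap.lTensor_zero, LinearMap.zero_apply, LinearMap.lTensor_tmul] at this
      exact this.symm
    exact LinearMap.range_eq_top.1 (Submodule.Quotient.subsingleton_iff.1 hQ)
  refine ⟨?_, hs⟩
  let K := LinearMap.ker u
  haveI : Module.Finite B K := Module.Finite.iff_fg.2 (Module.FinitePresentation.fg_ker u hs)
  have hK : Subsingleton K := subsingleton_of_fibre (B := B) K p hp fun x => by
    have hi : Function.Injective ((K.subtype.restrictScalars R).lTensor p.ResidueField) :=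
      LinearMap.lTensor_injective_of_exact_of_flat (u.restrictScalars R) hs (K.subtype.restrictScalars R)
        Subtype.val_injective (LinearMap.exact_subtype_ker_map u) p.ResidueField
    apply hi
    apply h.1
    rw [map_zero, map_zero, ← LinearMap.comp_apply, ← LinearMap.lTensor_comp,
      show (u.restrictScalars R).comp (K.subtype.restrictScalars R) = 0 from LinearMap.ext fun m => m.2,
      LinearMap.lTensor_zero, LinearMap.zero_apply]
  rw [← LinearMap.ker_eq_bot, Submodule.eq_bot_iff]
  intro x hx
  exact congrArg Subtype.val (Subsingleton.elim (⟨x, hx⟩ : K) 0)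

end loc

section chart

variable {R B : Type u} [CommRing R] [CommRing B] [Algebra R B]
  {M N : Type u} [AddCommGroup M] [Module B M] [Module R M] [IsScalarTower R B M]
  [AddCommGroup N] [Module B N] [Module R N] [IsScalarTower R B N]

theorem flat_localized [Module.Flat R N] (S : Submonoid B) {N' : Type u} [AddCommGroup N'] [Module B N']
    [Module R N'] [IsScalarTower R B N'] (f : N →ₗ[B] N') [IsLocalizedModule S f] : Module.Flat R N' := by
  rw [Module.Flat.iff_lTensor_injectiveₛ]
  intro P _ _ L
  have h := Module.Flat.lTensor_preserves_injective_linearMap (M := N) L.subtype Subtype.val_injective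
  rw [← AlgebraTensorModule.coe_lTensor (A := B)] at h ⊢
  rw [← IsLocalizedModule.map_lTensor (S := S) (f := L.subtype) (g := f)]
  exact IsLocalizedModule.map_injective _ _ _ _ h

/-- Bijective on the fibre at `p` implies bijective at every prime over `p`. -/
theorem map_bijective_of_fibre [Module.Finite B M] [Module.FinitePresentation B N] [Module.Flat R N]
    (u : M →ₗ[B] N) (p : Ideal R) [p.IsPrime] (h : Function.Bijective ((u.restrictScalars R).lTensor p.ResidueField))
    (q : Ideal B) [q.IsPrime] (hpq : p = q.comap (algebraMap R B)) :
    Function.Bijective (LocalizedModule.map q.primeCompl u) := by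
  let Bq := Localization.AtPrime q
  let fM := LocalizedModule.mkLinearMap q.primeCompl M
  let fN := LocalizedModule.mkLinearMap q.primeCompl N
  let v : LocalizedModule q.primeCompl M →ₗ[Bq] LocalizedModule q.primeCompl N := LocalizedModule.map q.primeCompl u
  have hv : ∀ m, v (fM m) = fN (u m) := fun m =>
    LocalizedModule.map_mk q.primeCompl u m 1
  haveI : Module.Flat R (LocalizedModule q.primeCompl N) := flat_localized q.primeCompl fN
  haveI : Module.Finite Bq (LocalizedModule q.primeCompl M) := Module.Finite.of_isLocalizedModule q.primeCompl fM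
  haveI : Module.FinitePresentation Bq (LocalizedModule q.primeCompl N) := inferInstance
  refine bijective_of_fibre (B := Bq) v p (by
    rw [hpq, IsScalarTower.algebraMap_eq R B Bq, ← Ideal.comap_comap]
    congr 1
    exact (IsLocalization.AtPrime.comap_maximalIdeal Bq q).symm) ?_
  let k := p.ResidueField
  let gM := AlgebraTensorModule.rTensor R k fM
  let gN := AlgebraTensorModule.rTensor R k fN
  let u' : M ⊗[R] k →ₗ[B] N ⊗[R] k := AlgebraTensorModule.rTensor R k u
  have hu' : Function.Bijective u' := by
    have e : ⇑u' = ⇑(TensorProduct.comm R k N) ∘ (u.restrictScalars R).lTensor k ∘ ⇑(TensorProduct.comm R k M).symm := by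
      funext z
      induction z using TensorProduct.induction_on with
      | zero => simp
      | tmul m a => simp [u']
      | add a b ha hb => simp only [map_add, ha, hb, Function.comp_apply]
    rw [e]
    exact (TensorProduct.comm R k N).bijective.comp (h.comp (TensorProduct.comm R k M).symm.bijective)
  have hmap : Function.Bijective (IsLocalizedModule.map q.primeCompl gM gN u') :=
    ⟨IsLocalizedModule.map_injective q.primeCompl gM gN u' hu'.1, IsLocalizedModule.map_surjective q.primeCompl gM gN u' hu'.2⟩
  have e2 : IsLocalizedModule.map q.primeCompl gM gN u' = AlgebraTensorModule.rTensor R k (v.restrictScalars B) := by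
    apply IsLocalizedModule.linearMap_ext q.primeCompl gM gN
    rw [IsLocalizedModule.map_comp]
    ext m
    simp only [gM, gN, u', AlgebraTensorModule.curry_apply, LinearMap.restrictScalars_self, curry_apply,
      LinearMap.coe_restrictScalars, LinearMap.coe_comp, Function.comp_apply, AlgebraTensorModule.rTensor_tmul, hv]
  rw [e2] at hmap
  have e : ⇑((v.restrictScalars R).lTensor k) = ⇑(TensorProduct.comm R _ k) ∘
      ⇑(AlgebraTensorModule.rTensor R k (v.restrictScalars B)) ∘ ⇑(TensorProduct.comm R _ k).symm := by
    funext z
    induction z using TensorProduct.induction_on with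
    | zero => simp
    | tmul a m => simp
    | add a b ha hb => simp only [map_add, ha, hb, Function.comp_apply]
  rw [e]
  exact (TensorProduct.comm R _ k).bijective.comp (hmap.comp (TensorProduct.comm R _ k).symm.bijective)

/-- Bijectivity at a prime spreads to a basic open. -/
theorem exists_nhd [Module.Finite B M] [Module.FinitePresentation B N] (u : M →ₗ[B] N) (q : Ideal B) [q.IsPrime]
    (h : Function.Bijective (LocalizedModule.map q.primeCompl u)) :
    ∃ b ∉ q, ∀ (q' : Ideal B) [q'.IsPrime], b ∉ q' → Function.Bijective (LocalizedModule.map q'.primeCompl u) := by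
  obtain ⟨b, hb, hbij⟩ := Module.FinitePresentation.exists_notMem_bijective u q
    (LocalizedModule.mkLinearMap q.primeCompl M) (LocalizedModule.mkLinearMap q.primeCompl N) h
  refine ⟨b, hb, fun q' _ hb' => ?_⟩
  have hle : Submonoid.powers b ≤ q'.primeCompl := Submonoid.powers_le.2 hb'
  constructor
  · rw [injective_iff_map_eq_zero]
    intro z hz
    induction z using LocalizedModule.induction_on with
    | h m s =>
      rw [LocalizedModule.map_mk] at hz
      obtain ⟨c, hc⟩ := LocalizedModule.mk_eq.1 (hz.trans (LocalizedModule.zero_mk (1 : q'.primeCompl)).symm)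
      have hc' : u ((c : B) • m) = 0 := by simpa [Submonoid.smul_def] using hc
      have h0 : LocalizedModule.map (Submonoid.powers b) u (LocalizedModule.mk ((c : B) • m) 1) =
          LocalizedModule.map (Submonoid.powers b) u 0 := by
        rw [LocalizedModule.map_mk, hc', LocalizedModule.zero_mk, map_zero]
      obtain ⟨d, hd⟩ := LocalizedModule.mk_eq.1 ((hbij.1 h0).trans (LocalizedModule.zero_mk (1 : Submonoid.powers b)).symm)
      rw [← LocalizedModule.zero_mk (1 : q'.primeCompl), LocalizedModule.mk_eq]
      refine ⟨⟨(d : B) * c, q'.primeCompl.mul_mem (hle d.2) c.2⟩, ?_⟩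
      simpa [Submonoid.smul_def, mul_smul] using hd
  · intro z
    induction z using LocalizedModule.induction_on with
    | h n s =>
      obtain ⟨w, hw⟩ := hbij.2 (LocalizedModule.mk n 1)
      induction w using LocalizedModule.induction_on with
      | h m t =>
        rw [LocalizedModule.map_mk, LocalizedModule.mk_eq] at hw
        obtain ⟨c, hc⟩ := hw
        refine ⟨LocalizedModule.mk m (⟨t, hle t.2⟩ * s), ?_⟩
        rw [LocalizedModule.map_mk, LocalizedModule.mk_eq]
        refine ⟨⟨c, hle c.2⟩, ?_⟩
        simp only [Submonoid.smul_def, Submonoid.coe_mul, OneMemClass.coe_one, one_smul] at hc ⊢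
        rw [smul_smul, smul_smul, ← mul_comm (s : B) (t : B), ← mul_assoc, mul_comm (c : B) s, mul_smul, hc]
        simp only [smul_smul, mul_assoc]

omit [Module B M] [IsScalarTower R B M] [Module B N] [IsScalarTower R B N] in
/-- Bijectivity on a fibre only depends on the kernel of the field-valued point. -/
theorem lTensor_bijective_iff (u : M →ₗ[R] N) (p : Ideal R) [p.IsPrime] (K : Type u) [Field K] [Algebra R K]
    (hK : RingHom.ker (algebraMap R K) = p) :
    Function.Bijective (u.lTensor K) ↔ Function.Bijective (u.lTensor p.ResidueField) := by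
  let g := Ideal.ResidueField.lift p (algebraMap R K) hK.ge
    (fun x hx => isUnit_iff_ne_zero.2 fun h0 => hx (hK ▸ h0))
  letI := g.toAlgebra
  haveI : IsScalarTower R p.ResidueField K := IsScalarTower.of_algebraMap_eq fun r => by
    rw [RingHom.algebraMap_toAlgebra, Ideal.ResidueField.lift_algebraMap]
  let e₁ := AlgebraTensorModule.cancelBaseChange R p.ResidueField p.ResidueField K M
  let e₂ := AlgebraTensorModule.cancelBaseChange R p.ResidueField p.ResidueField K N
  let w : p.ResidueField ⊗[R] M →ₗ[p.ResidueField] p.ResidueField ⊗[R] N := AlgebraTensorModule.lTensor _ _ u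
  have e : ⇑(u.lTensor K) = ⇑e₂ ∘ ⇑(w.lTensor K) ∘ ⇑e₁.symm := by
    funext z
    induction z using TensorProduct.induction_on with
    | zero => simp
    | tmul a m => simp [e₁, e₂, w]
    | add a b ha hb => simp only [map_add, ha, hb, Function.comp_apply]
  rw [e, EquivLike.comp_bijective, EquivLike.bijective_comp]
  exact Module.FaithfullyFlat.lTensor_bijective_iff_bijective p.ResidueField K w

end chart

end Groth.Agent.FlatIso
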