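import Groth.Agent.FlatIso.Algebra
import Groth.Agent.LimModLib.Props
import Groth.Agent.QCoh.FlatOver
import Groth.Agent.QCoh.ClosedPush
import Groth.Agent.ZClosLib.Basic
import Groth.Prelude.Def_Algz2

/-! A morphism of quasi-coherent modules on an affine chart: stalks, sections, fibres. -/

set_option autoImplicit false
set_option backward.isDefEq.respectTransparency false
set_option backward.isDefEq.respectTransparency.types false
set_option linter.style.haveILetI false

universe u

open CategoryTheory CategoryTheory.Limits AlgebraicGeometry TopologicalSpace Opposite TensorProduct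

namespace Groth.Agent.FlatIso

variable {X S : Scheme.{u}} {F G : X.Modules} (u : F ⟶ G)

/-- The map on sections, linear over the sections of the structure sheaf. -/
noncomputable def lin (U : X.Opens) : Γ(F, U) →ₗ[Γ(X, U)] Γ(G, U) where
  toFun := u.app U
  map_add' := map_add (u.app U).hom
  map_smul' r m := u.app_smul r m

theorem bijective_localized_iff_stalk (hF : Coh.IsQCoh F) (hG : Coh.IsQCoh G) {U : X.Opens} (hU : IsAffineOpen U)
    {x : X} (hx : x ∈ U) :
    Function.Bijective (LocalizedModule.map (hU.primeIdealOf ⟨x, hx⟩).asIdeal.primeCompl (lin u U)) ↔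
      Function.Bijective (ZClosLib.stalkMap u x) := by
  let S' := (hU.primeIdealOf ⟨x, hx⟩).asIdeal.primeCompl
  letI := QCoh.stalkModule F hx
  letI := QCoh.stalkModule G hx
  haveI := QCoh.isLocalizedModule_germLin hF hU hx
  haveI := QCoh.isLocalizedModule_germLin hG hU hx
  let σ : F.presheaf.stalk x →ₗ[Γ(X, U)] G.presheaf.stalk x :=
    { toFun := ZClosLib.stalkMap u x
      map_add' := map_add (ZClosLib.stalkMap u x).hom
      map_smul' := fun r m => Algz.stalkMapAb_smul u x (X.presheaf.germ U x hx r) m }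
  let eF := IsLocalizedModule.iso S' (QCoh.germLin F hx)
  let eG := IsLocalizedModule.iso S' (QCoh.germLin G hx)
  have e : σ.comp eF.toLinearMap = eG.toLinearMap.comp ((LocalizedModule.map S' (lin u U)).restrictScalars _) := by
    apply IsLocalizedModule.linearMap_ext S' (LocalizedModule.mkLinearMap S' Γ(F, U)) (QCoh.germLin G hx)
    refine LinearMap.ext fun m => ?_
    show σ (eF (LocalizedModule.mk m 1)) = eG (LocalizedModule.map S' (lin u U) (LocalizedModule.mk m 1))
    rw [LocalizedModule.map_mk, IsLocalizedModule.iso_mk_one, IsLocalizedModule.iso_mk_one]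
    exact ZClosLib.stalkMap_germ u hx m
  have e' : ⇑(ZClosLib.stalkMap u x) ∘ ⇑eF = ⇑eG ∘ ⇑(LocalizedModule.map S' (lin u U)) :=
    congrArg DFunLike.coe e
  rw [← EquivLike.comp_bijective (f := ⇑(LocalizedModule.map S' (lin u U))) eG, ← e', EquivLike.bijective_comp]

theorem app_bijective_of_stalk (hF : Coh.IsQCoh F) (hG : Coh.IsQCoh G) {U : X.Opens} (hU : IsAffineOpen U)
    (h : ∀ x ∈ U, Function.Bijective (ZClosLib.stalkMap u x)) : Function.Bijective (u.app U) := by
  refine (bijective_of_localized_maximal (f := lin u U) fun J hJ => ?_ : Function.Bijective (lin u U))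
  obtain ⟨y, hy, hq⟩ := QCoh.exists_point hU ⟨J, hJ.isPrime⟩
  have hq' : (hU.primeIdealOf ⟨y, hy⟩).asIdeal = J := congrArg PrimeSpectrum.asIdeal hq
  subst hq'
  exact (bijective_localized_iff_stalk u hF hG hU hy).2 (h y hy)

/-- The locus of bijectivity on stalks is open. -/
theorem isOpen_stalk_bijective (hF : CohB1.IsFP F) (hG : CohB1.IsFP G) :
    IsOpen {x : X | Function.Bijective (ZClosLib.stalkMap u x)} := by
  have qF := QCoh.isQCoh_of_isFP hF
  have qG := QCoh.isQCoh_of_isFP hG
  refine isOpen_iff_forall_mem_open.2 fun x hx => ?_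
  obtain ⟨_, ⟨U, hU : IsAffineOpen U, rfl⟩, hxU, -⟩ :=
    X.isBasis_affineOpens.exists_subset_of_mem_open (Set.mem_univ x) isOpen_univ
  haveI := QCoh.finitePresentation_of_isFP hF hU
  haveI := QCoh.finitePresentation_of_isFP hG hU
  obtain ⟨b, hb, hb'⟩ := exists_nhd (lin u U) (hU.primeIdealOf ⟨x, hxU⟩).asIdeal
    ((bijective_localized_iff_stalk u qF qG hU hxU).2 hx)
  refine ⟨X.basicOpen b, fun y hy => ?_, (X.basicOpen b).2, (QCoh.mem_basicOpen_iff_notMem hU hxU b).2 hb⟩
  have hyU : y ∈ U := X.basicOpen_le b hy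
  exact (bijective_localized_iff_stalk u qF qG hU hyU).1 (hb' _ ((QCoh.mem_basicOpen_iff_notMem hU hyU b).1 hy))

theorem isIso_restrict_of_stalk (hF : Coh.IsQCoh F) (hG : Coh.IsQCoh G) (O : X.Opens)
    (h : ∀ x ∈ O, Function.Bijective (ZClosLib.stalkMap u x)) :
    IsIso ((Scheme.Modules.restrictFunctor O.ι).map u) := by
  refine QCoh.isIso_of_isBasis _ (Scheme.isBasis_affineOpens O) fun W hW => ?_
  refine app_bijective_of_stalk u hF hG (hW.image_of_isOpenImmersion O.ι) fun x hx => ?_
  obtain ⟨y, -, rfl⟩ := hx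
  exact h _ y.2

variable (f : X ⟶ S)

theorem lTensor_bijective_congr {A M M' N N' P : Type*} [CommRing A] [AddCommGroup M] [Module A M] [AddCommGroup M']
    [Module A M'] [AddCommGroup N] [Module A N] [AddCommGroup N'] [Module A N'] [AddCommGroup P] [Module A P]
    (v : M →ₗ[A] N) (w : M' →ₗ[A] N') (eM : M ≃ₗ[A] M') (eN : N ≃ₗ[A] N')
    (h : w.comp eM.toLinearMap = eN.toLinearMap.comp v) :
    Function.Bijective (v.lTensor P) ↔ Function.Bijective (w.lTensor P) := by
  have e := congrArg (fun φ : M →ₗ[A] N' => φ.lTensor P) h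
  simp only [LinearMap.lTensor_comp] at e
  have e' : ⇑(w.lTensor P) ∘ ⇑(eM.lTensor P) = ⇑(eN.lTensor P) ∘ ⇑(v.lTensor P) := congrArg DFunLike.coe e
  rw [← EquivLike.comp_bijective (f := ⇑(v.lTensor P)) (eN.lTensor P), ← e', EquivLike.bijective_comp]

/-- Pullback along a point of an affine chart. -/
theorem isIso_pullback_spec_iff (hF : Coh.IsQCoh F) (hG : Coh.IsQCoh G) {U : X.Opens} (hU : IsAffineOpen U)
    {B' : CommRingCat.{u}} (g : Γ(X, U) ⟶ B') :
    IsIso ((Scheme.Modules.pullback (Spec.map g ≫ hU.fromSpec)).map u) ↔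
      (letI := g.hom.toAlgebra; Function.Bijective ((lin u U).lTensor B')) := by
  letI := g.hom.toAlgebra
  let i := hU.fromSpec
  haveI hF' : IsIso (F.restrict i).fromTildeΓ :=
    (isQuasicoherent_iff_isIso_fromTildeΓ _).1 (QCoh.isQCoh_restrict i hF)
  haveI hG' : IsIso (G.restrict i).fromTildeΓ :=
    (isQuasicoherent_iff_isIso_fromTildeΓ _).1 (QCoh.isQCoh_restrict i hG)
  let K : Scheme.Modules.pullback (Spec.map g ≫ i) ≅
      Scheme.Modules.restrictFunctor i ⋙ Scheme.Modules.pullback (Spec.map g) :=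
    (Scheme.Modules.pullbackComp (Spec.map g) i).symm ≪≫
      Functor.isoWhiskerRight (Scheme.Modules.restrictFunctorIsoPullback i).symm _
  let e : Arrow.mk ((Scheme.Modules.restrictFunctor i).map u) ≅ Arrow.mk (tilde.map ((LimModLib.chartΓ hU).map u)) :=
    (Arrow.isoMk (@asIso _ _ _ _ (F.restrict i).fromTildeΓ hF') (@asIso _ _ _ _ (G.restrict i).fromTildeΓ hG')
      (Scheme.Modules.fromTildeΓNatTrans.naturality ((Scheme.Modules.restrictFunctor i).map u)).symm).symm
  let E := ModuleCat.extendScalars.{_, _, u} g.hom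
  let e₁ : Arrow.mk ((Scheme.Modules.pullback (Spec.map g ≫ i)).map u) ≅
      Arrow.mk ((Scheme.Modules.restrictFunctor i ⋙ Scheme.Modules.pullback (Spec.map g)).map u) :=
    Arrow.isoMk (K.app F) (K.app G) (K.hom.naturality u).symm
  let e₂ := (Scheme.Modules.pullback (Spec.map g)).mapArrow.mapIso e
  let e₃ : Arrow.mk ((tilde.functor Γ(X, U) ⋙ Scheme.Modules.pullback (Spec.map g)).map ((LimModLib.chartΓ hU).map u)) ≅
      Arrow.mk ((E ⋙ tilde.functor B').map ((LimModLib.chartΓ hU).map u)) :=
    Arrow.isoMk ((QCoh.tildePullbackIso g).app _) ((QCoh.tildePullbackIso g).app _)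
      ((QCoh.tildePullbackIso g).hom.naturality _).symm
  refine ((MorphismProperty.isomorphisms _).arrow_mk_iso_iff (e₁ ≪≫ e₂ ≪≫ e₃)).trans
    ((LimModLib.tilde_extend_isIso_iff ((LimModLib.chartΓ hU).map u) g.hom).trans ?_)
  refine (lTensor_bijective_congr (lin u U) ((LimModLib.chartΓ hU).map u).hom
    (QCoh.chartEquiv hU F) (QCoh.chartEquiv hU G) ?_).symm
  exact LinearMap.ext fun m => QCoh.map_app_comm u _ m

end Groth.Agent.FlatIso
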