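import Groth.Agent.FlatIso.Chart
import Groth.Agent.LimModLib.Functor
import Groth.Agent.S4796

/-! The open locus of the base over which a morphism to a flat module is an isomorphism. -/

set_option autoImplicit false
set_option backward.isDefEq.respectTransparency false
set_option backward.isDefEq.respectTransparency.types false
set_option linter.style.haveILetI false

universe u

open CategoryTheory CategoryTheory.Limits AlgebraicGeometry TopologicalSpace Opposite TensorProduct

namespace Groth.Agent.FlatIso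

theorem lTensor_push_iff {R B K : Type u} [CommRing R] [CommRing B] [CommRing K] [Algebra R B] [Algebra R K]
    {M N : Type u} [AddCommGroup M] [Module B M] [Module R M] [IsScalarTower R B M]
    [AddCommGroup N] [Module B N] [Module R N] [IsScalarTower R B N] (u : M →ₗ[B] N) :
    Function.Bijective (u.lTensor (B ⊗[R] K)) ↔ Function.Bijective ((u.restrictScalars R).lTensor K) := by
  let eM : (B ⊗[R] K) ⊗[B] M ≃+ K ⊗[R] M := ((TensorProduct.comm B _ M).trans
    (AlgebraTensorModule.cancelBaseChange R B B M K)).toAddEquiv.trans (TensorProduct.comm R M K).toAddEquiv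
  let eN : (B ⊗[R] K) ⊗[B] N ≃+ K ⊗[R] N := ((TensorProduct.comm B _ N).trans
    (AlgebraTensorModule.cancelBaseChange R B B N K)).toAddEquiv.trans (TensorProduct.comm R N K).toAddEquiv
  have e : ⇑((u.restrictScalars R).lTensor K) ∘ ⇑eM = ⇑eN ∘ ⇑(u.lTensor (B ⊗[R] K)) := by
    funext z
    induction z using TensorProduct.induction_on with
    | zero => simp
    | add a b ha hb => simp only [Function.comp_apply, map_add] at ha hb ⊢; rw [ha, hb]
    | tmul w m =>
      induction w using TensorProduct.induction_on with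
      | zero => simp
      | add a b ha hb => simp only [Function.comp_apply, TensorProduct.add_tmul, map_add] at ha hb ⊢; rw [ha, hb]
      | tmul b k => simp [eM, eN]
  rw [← EquivLike.bijective_comp eM (f := ⇑((u.restrictScalars R).lTensor K)), e, EquivLike.comp_bijective]

variable {X S : Scheme.{u}} (f : X ⟶ S) {F G : X.Modules} (u : F ⟶ G)

/-- Bijectivity of the fibre over a prime of an affine chart of the base, on an affine chart above it. -/
def Fib {U : X.Opens} {V : S.Opens} (hle : U ≤ f ⁻¹ᵁ V) (K : Type u) [CommRing K] [Algebra Γ(S, V) K] : Prop :=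
  letI : Algebra Γ(S, V) Γ(X, U) := (f.appLE V U hle).hom.toAlgebra
  letI : Module Γ(S, V) Γ(F, U) := Module.compHom _ (f.appLE V U hle).hom
  letI : Module Γ(S, V) Γ(G, U) := Module.compHom _ (f.appLE V U hle).hom
  haveI : IsScalarTower Γ(S, V) Γ(X, U) Γ(F, U) := IsScalarTower.of_algebraMap_smul fun _ _ => rfl
  haveI : IsScalarTower Γ(S, V) Γ(X, U) Γ(G, U) := IsScalarTower.of_algebraMap_smul fun _ _ => rfl
  Function.Bijective (((lin u U).restrictScalars Γ(S, V)).lTensor K)

variable {f u}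

theorem fib_of_isIso (hF : Coh.IsQCoh F) (hG : Coh.IsQCoh G) {U : X.Opens} (hU : IsAffineOpen U) {V : S.Opens}
    (hV : IsAffineOpen V) (hle : U ≤ f ⁻¹ᵁ V) (K : Type u) [CommRing K] [Algebra Γ(S, V) K]
    {T : Scheme.{u}} (t : T ⟶ S) (τ : Spec (CommRingCat.of K) ⟶ T)
    (hτ : τ ≫ t = Spec.map (CommRingCat.ofHom (algebraMap Γ(S, V) K)) ≫ hV.fromSpec)
    (h : IsIso ((Scheme.Modules.pullback (pullback.fst f t)).map u)) : Fib f u hle K := by
  letI : Algebra Γ(S, V) Γ(X, U) := (f.appLE V U hle).hom.toAlgebra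
  letI : Module Γ(S, V) Γ(F, U) := Module.compHom _ (f.appLE V U hle).hom
  letI : Module Γ(S, V) Γ(G, U) := Module.compHom _ (f.appLE V U hle).hom
  haveI : IsScalarTower Γ(S, V) Γ(X, U) Γ(F, U) := IsScalarTower.of_algebraMap_smul fun _ _ => rfl
  haveI : IsScalarTower Γ(S, V) Γ(X, U) Γ(G, U) := IsScalarTower.of_algebraMap_smul fun _ _ => rfl
  let gB : Γ(X, U) ⟶ CommRingCat.of (Γ(X, U) ⊗[Γ(S, V)] K) := CommRingCat.ofHom
    (Algebra.TensorProduct.includeLeftRingHom)
  let gK : CommRingCat.of K ⟶ CommRingCat.of (Γ(X, U) ⊗[Γ(S, V)] K) := CommRingCat.ofHom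
    (Algebra.TensorProduct.includeRight (R := Γ(S, V)) (A := Γ(X, U)) (B := K)).toRingHom
  have hsq : f.appLE V U hle ≫ gB = CommRingCat.ofHom (algebraMap Γ(S, V) K) ≫ gK :=
    CommRingCat.hom_ext (Algebra.TensorProduct.includeLeftRingHom_comp_algebraMap)
  have hw : (Spec.map gB ≫ hU.fromSpec) ≫ f = (Spec.map gK ≫ τ) ≫ t := by
    rw [Category.assoc, ← QCoh.exists_chart_map f hV hU hle, ← Spec.map_comp_assoc, hsq, Spec.map_comp_assoc,
      Category.assoc, hτ]
  have hj := LimModLib.isoProp.of_factor (pullback.lift (Spec.map gB ≫ hU.fromSpec) (Spec.map gK ≫ τ) hw)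
    (pullback.lift_fst _ _ _) u h
  have hb := (isIso_pullback_spec_iff u hF hG hU gB).1 hj
  have e : gB.hom.toAlgebra = (inferInstance : Algebra Γ(X, U) (Γ(X, U) ⊗[Γ(S, V)] K)) :=
    Algebra.algebra_ext _ _ fun _ => rfl
  revert hb
  rw [e]
  exact (lTensor_push_iff (lin u U)).1

theorem fromSpec_comap {U : X.Opens} (hU : IsAffineOpen U) {V : S.Opens} (hV : IsAffineOpen V) (hle : U ≤ f ⁻¹ᵁ V)
    {x : X} (hx : x ∈ U) :
    hV.fromSpec (PrimeSpectrum.comap (f.appLE V U hle).hom (hU.primeIdealOf ⟨x, hx⟩)) = f x := by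
  show (Spec.map (f.appLE V U hle) ≫ hV.fromSpec) (hU.primeIdealOf ⟨x, hx⟩) = f x
  rw [QCoh.exists_chart_map f hV hU hle, Scheme.Hom.comp_apply, hU.fromSpec_primeIdealOf]

/-- Bijective fibre on a chart gives bijective stalks over the point. -/
theorem stalk_of_fib (hF : CohB1.IsFP F) (hG : CohB1.IsFP G) (hGfl : FlatMod.IsFlatOver f G) {U : X.Opens}
    (hU : IsAffineOpen U) {V : S.Opens} (hV : IsAffineOpen V) (hle : U ≤ f ⁻¹ᵁ V) {x : X} (hx : x ∈ U)
    (p : PrimeSpectrum Γ(S, V)) (hp : hV.fromSpec p = f x) (h : Fib f u hle p.asIdeal.ResidueField) :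
    Function.Bijective (ZClosLib.stalkMap u x) := by
  letI : Algebra Γ(S, V) Γ(X, U) := (f.appLE V U hle).hom.toAlgebra
  letI : Module Γ(S, V) Γ(F, U) := Module.compHom _ (f.appLE V U hle).hom
  letI : Module Γ(S, V) Γ(G, U) := Module.compHom _ (f.appLE V U hle).hom
  haveI : IsScalarTower Γ(S, V) Γ(X, U) Γ(F, U) := IsScalarTower.of_algebraMap_smul fun _ _ => rfl
  haveI : IsScalarTower Γ(S, V) Γ(X, U) Γ(G, U) := IsScalarTower.of_algebraMap_smul fun _ _ => rfl
  have qF := QCoh.isQCoh_of_isFP hF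
  have qG := QCoh.isQCoh_of_isFP hG
  haveI := QCoh.finitePresentation_of_isFP hF hU
  haveI := QCoh.finitePresentation_of_isFP hG hU
  haveI : Module.Flat Γ(S, V) Γ(G, U) := (QCoh.flat_appLE_iff f qG hU hV hle).2 fun y _ => hGfl y
  refine (bijective_localized_iff_stalk u qF qG hU hx).1 (map_bijective_of_fibre (lin u U) p.asIdeal h _ ?_)
  exact congrArg PrimeSpectrum.asIdeal
    (hV.fromSpec.isOpenEmbedding.injective (hp.trans (fromSpec_comap hU hV hle hx).symm))

/-- The points of the base over which the morphism is bijective on stalks. -/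
noncomputable def locus (hF : CohB1.IsFP F) (hG : CohB1.IsFP G) [IsProper f] : S.Opens :=
  ⟨(f '' {x : X | Function.Bijective (ZClosLib.stalkMap u x)}ᶜ)ᶜ,
    (f.isClosedMap _ (isOpen_stalk_bijective u hF hG).isClosed_compl).isOpen_compl⟩

theorem mem_locus [IsProper f] (hF : CohB1.IsFP F) (hG : CohB1.IsFP G) (s : S) :
    s ∈ locus (f := f) (u := u) hF hG ↔ ∀ x, f x = s → Function.Bijective (ZClosLib.stalkMap u x) := by
  show ¬ (∃ x, ¬ _ ∧ _) ↔ _
  simp only [not_exists, not_and, not_imp_not, Set.mem_ofPred_eq]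

theorem isIso_of_range_le [IsProper f] (hF : CohB1.IsFP F) (hG : CohB1.IsFP G) {T : Scheme.{u}} (t : T ⟶ S)
    (h : Set.range t ⊆ (locus (f := f) (u := u) hF hG : Set S)) :
    IsIso ((Scheme.Modules.pullback (pullback.fst f t)).map u) := by
  let O := f ⁻¹ᵁ locus (f := f) (u := u) hF hG
  have hO : IsIso ((Scheme.Modules.restrictFunctor O.ι).map u) :=
    isIso_restrict_of_stalk u (QCoh.isQCoh_of_isFP hF) (QCoh.isQCoh_of_isFP hG) O fun x hx =>
      (mem_locus hF hG _).1 hx x rfl
  have hO' : IsIso ((Scheme.Modules.pullback O.ι).map u) :=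
    (NatIso.isIso_map_iff (Scheme.Modules.restrictFunctorIsoPullback O.ι) u).1 hO
  have hr : Set.range (pullback.fst f t) ⊆ Set.range O.ι := by
    rw [Scheme.Opens.range_ι]
    rintro _ ⟨z, rfl⟩
    show f (pullback.fst f t z) ∈ locus hF hG
    rw [← Scheme.Hom.comp_apply, pullback.condition, Scheme.Hom.comp_apply]
    exact h ⟨_, rfl⟩
  exact LimModLib.isoProp.of_factor (IsOpenImmersion.lift O.ι _ hr) (IsOpenImmersion.lift_fac _ _ hr) u hO'

theorem specMap_residue_apply {R : CommRingCat.{u}} (p : PrimeSpectrum R) (z) :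
    Spec.map (CommRingCat.ofHom (algebraMap R p.asIdeal.ResidueField)) z = p := by
  refine PrimeSpectrum.ext ?_
  show Ideal.comap _ z.asIdeal = _
  rw [(Ideal.eq_bot_or_top z.asIdeal).resolve_right z.2.ne_top]
  exact p.asIdeal.ker_algebraMap_residueField

theorem range_le_of_isIso [IsProper f] (hF : CohB1.IsFP F) (hG : CohB1.IsFP G) (hGfl : FlatMod.IsFlatOver f G)
    {T : Scheme.{u}} (t : T ⟶ S) (h : IsIso ((Scheme.Modules.pullback (pullback.fst f t)).map u)) :
    Set.range t ⊆ (locus (f := f) (u := u) hF hG : Set S) := by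
  rintro _ ⟨τ, rfl⟩
  refine (mem_locus hF hG _).2 fun x hx => ?_
  obtain ⟨_, ⟨V, hV : IsAffineOpen V, rfl⟩, hτV, -⟩ :=
    S.isBasis_affineOpens.exists_subset_of_mem_open (Set.mem_univ (t τ)) isOpen_univ
  obtain ⟨_, ⟨U, hU : IsAffineOpen U, rfl⟩, hxU, hle⟩ :=
    X.isBasis_affineOpens.exists_subset_of_mem_open (show x ∈ f ⁻¹ᵁ V by show f x ∈ V; rw [hx]; exact hτV) (f ⁻¹ᵁ V).2
  have hr : Set.range (T.fromSpecResidueField τ ≫ t) ⊆ Set.range hV.fromSpec := by
    rw [hV.range_fromSpec]
    rintro _ ⟨z, rfl⟩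
    rw [Scheme.Hom.comp_apply, Scheme.fromSpecResidueField_apply]
    exact hτV
  let g : Γ(S, V) ⟶ T.residueField τ := Spec.preimage (IsOpenImmersion.lift hV.fromSpec _ hr)
  letI : Algebra Γ(S, V) (T.residueField τ) := g.hom.toAlgebra
  have hg : Spec.map g ≫ hV.fromSpec = T.fromSpecResidueField τ ≫ t := by
    rw [Spec.map_preimage, IsOpenImmersion.lift_fac]
  have hfib := fib_of_isIso (QCoh.isQCoh_of_isFP hF) (QCoh.isQCoh_of_isFP hG) hU hV hle (T.residueField τ) t
    (T.fromSpecResidueField τ) hg.symm h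
  let p : PrimeSpectrum Γ(S, V) := hV.primeIdealOf ⟨t τ, hτV⟩
  have hk : Spec.map g (⊥ : PrimeSpectrum (T.residueField τ)) = p := by
    apply hV.fromSpec.isOpenEmbedding.injective
    rw [← Scheme.Hom.comp_apply, hg, Scheme.Hom.comp_apply, Scheme.fromSpecResidueField_apply,
      hV.fromSpec_primeIdealOf]
  have hker : RingHom.ker (algebraMap Γ(S, V) (T.residueField τ)) = p.asIdeal := congrArg PrimeSpectrum.asIdeal hk
  refine stalk_of_fib hF hG hGfl hU hV hle hxU p (by rw [hV.fromSpec_primeIdealOf]; exact hx.symm) ?_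
  letI : Module Γ(S, V) Γ(F, U) := Module.compHom _ (f.appLE V U hle).hom
  letI : Module Γ(S, V) Γ(G, U) := Module.compHom _ (f.appLE V U hle).hom
  exact (lTensor_bijective_iff _ p.asIdeal (T.residueField τ) hker).1 hfib

theorem isCompact_of_isConstructible {R : Type u} [CommRing R] {s : Set (PrimeSpectrum R)}
    (hs : Topology.IsConstructible s) : IsCompact s := by
  induction s, hs using Topology.IsConstructible.induction_of_isTopologicalBasis
      _ (PrimeSpectrum.isTopologicalBasis_basic_opens (R := R)) with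
  | isCompact_basis i => exact PrimeSpectrum.isCompact_basicOpen _
  | sdiff i s hs =>
    exact (PrimeSpectrum.isCompact_basicOpen _).diff (isOpen_biUnion fun j _ => (PrimeSpectrum.basicOpen j).2)
  | union s hs t ht Hs Ht => exact Hs.union Ht

theorem quasiCompact_locus [IsProper f] [LocallyOfFinitePresentation f] (hF : CohB1.IsFP F) (hG : CohB1.IsFP G)
    (hGfl : FlatMod.IsFlatOver f G) : QuasiCompact (locus (f := f) (u := u) hF hG).ι := by
  rw [quasiCompact_iff_forall_isAffineOpen]
  intro V hV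
  rw [(locus (f := f) (u := u) hF hG).ι.isOpenEmbedding.isInducing.isCompact_iff]
  suffices h : IsCompact ((V : Set S) ∩ locus (f := f) (u := u) hF hG) by
    convert h using 1
    rw [Scheme.Hom.coe_preimage, Set.image_preimage_eq_inter_range, Scheme.Opens.range_ι]
  have hc : IsCompact ((f ⁻¹ᵁ V : X.Opens) : Set X) := f.isCompact_preimage hV.isCompact
  obtain ⟨t, ht, hcov⟩ := (isCompact_iff_finite_and_eq_biUnion_affineOpens (X := X)).1 hc
  have hle : ∀ U : t, (U.1.1 : X.Opens) ≤ f ⁻¹ᵁ V := fun U =>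
    hcov ▸ le_iSup₂_of_le (f := fun (i : X.affineOpens) (_ : i ∈ t) => (i : X.Opens)) U.1 U.2 le_rfl
  let C : Set (PrimeSpectrum Γ(S, V)) := {p | ∀ U : t, Fib f u (hle U) p.asIdeal.ResidueField}
  have key : hV.fromSpec ⁻¹' (locus (f := f) (u := u) hF hG : Set S) = C := by
    refine Set.ext fun p => ⟨fun hp U => ?_, fun hp => (mem_locus hF hG _).2 fun x hx => ?_⟩
    · refine fib_of_isIso (QCoh.isQCoh_of_isFP hF) (QCoh.isQCoh_of_isFP hG) U.1.2 hV (hle U) p.asIdeal.ResidueField
        (Spec.map (CommRingCat.ofHom (algebraMap Γ(S, V) p.asIdeal.ResidueField)) ≫ hV.fromSpec) (𝟙 _)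
        (Category.id_comp _) (isIso_of_range_le hF hG _ ?_)
      rintro _ ⟨z, rfl⟩
      rw [Scheme.Hom.comp_apply, specMap_residue_apply]
      exact hp
    · have hxV : x ∈ f ⁻¹ᵁ V := by
        show f x ∈ V
        rw [hx, ← SetLike.mem_coe, ← hV.range_fromSpec]
        exact ⟨p, rfl⟩
      rw [hcov] at hxV
      simp only [Opens.mem_iSup] at hxV
      obtain ⟨U, hU, hxU⟩ := hxV
      exact stalk_of_fib hF hG hGfl U.2 hV (hle ⟨U, hU⟩) hxU p hx.symm (hp ⟨U, hU⟩)
  haveI : Finite t := ht.to_subtype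
  have hcons : Topology.IsConstructible C := by
    rw [show C = ⋂ U : t, {p : PrimeSpectrum Γ(S, V) | Fib f u (hle U) p.asIdeal.ResidueField} from Set.ofPred_forall _]
    rw [← Set.sInter_range]
    refine Topology.IsConstructible.sInter (Set.finite_range _) ?_
    rintro _ ⟨⟨⟨U, hU : IsAffineOpen U⟩, hUt⟩, rfl⟩
    have hle' := hle ⟨⟨U, hU⟩, hUt⟩
    letI : Algebra Γ(S, V) Γ(X, U) := (f.appLE V U hle').hom.toAlgebra
    haveI : Algebra.FinitePresentation Γ(S, V) Γ(X, U) := f.finitePresentation_appLE hV hU hle'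
    letI : Module Γ(S, V) Γ(F, U) := Module.compHom _ (f.appLE V U hle').hom
    letI : Module Γ(S, V) Γ(G, U) := Module.compHom _ (f.appLE V U hle').hom
    haveI : IsScalarTower Γ(S, V) Γ(X, U) Γ(F, U) := IsScalarTower.of_algebraMap_smul fun _ _ => rfl
    haveI : IsScalarTower Γ(S, V) Γ(X, U) Γ(G, U) := IsScalarTower.of_algebraMap_smul fun _ _ => rfl
    haveI := QCoh.finitePresentation_of_isFP hF hU
    haveI := QCoh.finitePresentation_of_isFP hG hU
    haveI : Module.FinitePresentation Γ(X, U) PUnit.{u + 1} := Module.finitePresentation_of_projective _ _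
    have h1 := S4796.result (R := Γ(S, V)) (0 : PUnit.{u + 1} →ₗ[Γ(X, U)] Γ(F, U)) (lin u U)
    have h2 := S4796.result (R := Γ(S, V)) (lin u U) (0 : Γ(G, U) →ₗ[Γ(X, U)] PUnit.{u + 1})
    refine (congrArg (@Topology.IsConstructible (PrimeSpectrum Γ(S, V)) _) (Set.ext fun p => ?_)).mp (h1.inter h2)
    simp only [Set.mem_inter_iff, Set.mem_ofPred_eq, LinearMap.restrictScalars_zero, LinearMap.baseChange_zero]
    rw [LinearMap.exact_zero_iff_injective, LinearMap.exact_zero_iff_surjective, LinearMap.baseChange_eq_ltensor]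
    exact Iff.rfl
  have hCc : IsCompact C := isCompact_of_isConstructible hcons
  rw [show (V : Set S) ∩ locus (f := f) (u := u) hF hG = hV.fromSpec '' C by
    rw [← key, Set.image_preimage_eq_inter_range, hV.range_fromSpec, Set.inter_comm]]
  exact hCc.image hV.fromSpec.continuous

end Groth.Agent.FlatIso
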